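import Groth.Agent.Lib.ArtinFlat.Basic
import Mathlib

/-!
# Regular sequences on flat modules over an Artinian local ring
-/

universe u v

open IsLocalRing TensorProduct

open scoped Pointwise

namespace GrothLib.ArtinReg

/-- `(M/fM)/J(M/fM) ≃ (M/JM)/f(M/JM)` -/
theorem nonempty_quotSMulTop_quotient_equiv {S : Type v} [CommRing S] {M : Type v} [AddCommGroup M]
    [Module S M] (J : Ideal S) (f : S) :
    Nonempty ((QuotSMulTop f M ⧸ J • (⊤ : Submodule S (QuotSMulTop f M))) ≃ₗ[S]
      QuotSMulTop f (M ⧸ J • (⊤ : Submodule S M))) := by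
  have e1 : J • (⊤ : Submodule S (QuotSMulTop f M)) =
      Submodule.map (f • (⊤ : Submodule S M)).mkQ (J • ⊤) := by
    rw [Submodule.map_smul'', Submodule.map_top, Submodule.range_mkQ]
  have e2 : Submodule.map (J • (⊤ : Submodule S M)).mkQ (f • ⊤) =
      f • (⊤ : Submodule S (M ⧸ J • (⊤ : Submodule S M))) := by
    rw [Submodule.map_pointwise_smul, Submodule.map_top, Submodule.range_mkQ]
  exact ⟨Submodule.quotEquivOfEq _ _ e1 ≪≫ₗ
      Submodule.quotientQuotientEquivQuotientSup _ _ ≪≫ₗ Submodule.quotEquivOfEq _ _ (sup_comm _ _) ≪≫ₗ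
      (Submodule.quotientQuotientEquivQuotientSup (J • (⊤ : Submodule S M)) (f • ⊤)).symm ≪≫ₗ
      Submodule.quotEquivOfEq _ _ e2⟩

variable {A : Type u} [CommRing A] [IsLocalRing A] [IsArtinianRing A]

theorem injective_residueField_of_injective {M L : Type v} [AddCommGroup M] [Module A M] [AddCommGroup L]
    [Module A L] [Module.Flat A M] (h : M →ₗ[A] L) (V : Type u) [AddCommGroup V] [Module A V]
    [Nontrivial V] (hV : Function.Injective (h.lTensor V)) :
    Function.Injective (h.lTensor (ResidueField A)) := by
  obtain ⟨n, hn⟩ : IsNilpotent (maximalIdeal A) := by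
    rw [← IsLocalRing.jacobson_eq_maximalIdeal (⊥ : Ideal A) bot_ne_top]
    exact IsArtinianRing.isNilpotent_jacobson_bot
  -- a copy of the residue field inside `V`
  obtain ⟨v, hv0, hv⟩ : ∃ v : V, v ≠ 0 ∧ ∀ a ∈ maximalIdeal A, a • v = 0 := by
    by_contra hc
    push Not at hc
    have hstep : ∀ m, ∃ a ∈ maximalIdeal A ^ m, ∃ v : V, a • v ≠ 0 := by
      intro m
      induction m with
      | zero =>
        obtain ⟨v, hv⟩ := exists_ne (0 : V)
        exact ⟨1, by simp, v, by simpa using hv⟩
      | succ m ih =>
        obtain ⟨a, ha, v, hav⟩ := ih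
        obtain ⟨b, hb, hbv⟩ := hc _ hav
        exact ⟨b * a, by rw [pow_succ']; exact Ideal.mul_mem_mul hb ha, v, by rwa [mul_smul]⟩
    obtain ⟨a, ha, v, hav⟩ := hstep n
    rw [hn] at ha
    exact hav (by rw [Ideal.mem_bot.1 ha, zero_smul])
  let s : ResidueField A →ₗ[A] V := Submodule.liftQ (maximalIdeal A) (LinearMap.toSpanSingleton A V v)
    fun a ha => LinearMap.mem_ker.2 (hv a ha)
  have hs : Function.Injective s := by
    rw [injective_iff_map_eq_zero]
    intro z hz
    obtain ⟨r, rfl⟩ := residue_surjective z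
    rw [residue_eq_zero_iff]
    by_contra hr
    have hr' : IsUnit r := by simpa [mem_maximalIdeal] using hr
    exact hv0 (hr'.smul_eq_zero.1 hz)
  have h1 : Function.Injective (s.rTensor M) := Module.Flat.rTensor_preserves_injective_linearMap s hs
  intro x y hxy
  apply h1
  apply hV
  have := congrArg (s.rTensor L) hxy
  rw [← LinearMap.comp_apply, ← LinearMap.comp_apply, LinearMap.rTensor_comp_lTensor] at this
  rw [← LinearMap.comp_apply, ← LinearMap.comp_apply, LinearMap.lTensor_comp_rTensor]
  exact this

variable {S : Type v} [CommRing S] [Algebra A S]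

theorem regular_mod_iff (I : Ideal A) {M : Type v} [AddCommGroup M] [Module A M] [Module S M]
    [IsScalarTower A S M] (f : S) :
    Function.Injective (((LinearMap.lsmul S M f).restrictScalars A).lTensor (A ⧸ I)) ↔
      IsSMulRegular (M ⧸ I.map (algebraMap A S) • (⊤ : Submodule S M)) f := by
  let P : Submodule S M := I.map (algebraMap A S) • ⊤
  have hP : ∀ x : M, x ∈ P ↔ x ∈ I • (⊤ : Submodule A M) := fun x => by
    have h := Submodule.restrictScalars_map_smul_eq (R := S) I (⊤ : Submodule S M)
    rw [Submodule.restrictScalars_top] at h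
    rw [← h]
    rfl
  let e := TensorProduct.quotTensorEquivQuotSMul M I
  let h := (LinearMap.lsmul S M f).restrictScalars A
  have he : ∀ x : M, e ((1 : A ⧸ I) ⊗ₜ x) = Submodule.Quotient.mk x := fun x => by
    rw [← map_one (Ideal.Quotient.mk I), TensorProduct.quotTensorEquivQuotSMul_mk_tmul, one_smul]
  have hsurj : ∀ z : (A ⧸ I) ⊗[A] M, ∃ x : M, z = (1 : A ⧸ I) ⊗ₜ x := fun z => by
    obtain ⟨x, hx⟩ := Submodule.Quotient.mk_surjective _ (e z)
    exact ⟨x, e.injective (hx.symm.trans (he x).symm)⟩
  rw [injective_iff_map_eq_zero, isSMulRegular_quotient_iff_mem_of_smul_mem]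
  constructor
  · intro hinj x hx
    have h0 : h.lTensor (A ⧸ I) ((1 : A ⧸ I) ⊗ₜ x) = 0 := by
      apply e.injective
      rw [LinearMap.lTensor_tmul, he, map_zero, Submodule.Quotient.mk_eq_zero, ← hP]
      exact hx
    have := congrArg e (hinj _ h0)
    rw [he, map_zero, Submodule.Quotient.mk_eq_zero, ← hP] at this
    exact this
  · intro hreg z hz
    obtain ⟨x, rfl⟩ := hsurj z
    have := congrArg e hz
    rw [LinearMap.lTensor_tmul, he, map_zero, Submodule.Quotient.mk_eq_zero, ← hP] at this
    apply e.injective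
    rw [he, map_zero, Submodule.Quotient.mk_eq_zero, ← hP]
    exact hreg x this

open RingTheory.Sequence in
theorem isWeaklyRegular_iff (I : Ideal A) (hI : I ≠ ⊤) (rs : List S) :
    ∀ (M : Type v) [AddCommGroup M] [Module A M] [Module S M] [IsScalarTower A S M] [Module.Flat A M],
      IsWeaklyRegular M rs ↔
        IsWeaklyRegular (M ⧸ I.map (algebraMap A S) • (⊤ : Submodule S M)) rs := by
  induction rs with
  | nil => intro M _ _ _ _ _; simp
  | cons f rs ih =>
    intro M _ _ _ _ _
    let J := I.map (algebraMap A S)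
    let h := (LinearMap.lsmul S M f).restrictScalars A
    have : Nontrivial (A ⧸ I) := Ideal.Quotient.nontrivial_iff.2 hI
    have h1 : IsSMulRegular M f ↔ Function.Injective (h.lTensor (ResidueField A)) := by
      refine ⟨fun hf => injective_residueField_of_injective h A ?_, fun hk =>
        GrothLib.ArtinFlat.injective_of_residueField h hk⟩
      exact Module.Flat.lTensor_preserves_injective_linearMap h hf
    have h2 : IsSMulRegular (M ⧸ J • (⊤ : Submodule S M)) f ↔
        Function.Injective (h.lTensor (ResidueField A)) := by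
      rw [← regular_mod_iff I f]
      exact ⟨injective_residueField_of_injective h (A ⧸ I), fun hk =>
        GrothLib.ArtinFlat.lTensor_injective_of_residueField h hk (A ⧸ I)
          (isFiniteLength_iff_isNoetherian_isArtinian.2 ⟨inferInstance, inferInstance⟩)⟩
    rw [isWeaklyRegular_cons_iff, isWeaklyRegular_cons_iff, h2, h1]
    refine and_congr_right fun hk => ?_
    have : Module.Flat A (QuotSMulTop f M) := by
      refine GrothLib.ArtinFlat.flat_of_residueField h
        ((f • (⊤ : Submodule S M)).mkQ.restrictScalars A) (Submodule.mkQ_surjective _) ?_ hk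
      intro x
      show Submodule.Quotient.mk x = (0 : QuotSMulTop f M) ↔ _
      rw [Submodule.Quotient.mk_eq_zero, Submodule.mem_smul_pointwise_iff_exists]
      simp [h]
    rw [ih (QuotSMulTop f M)]
    obtain ⟨e⟩ := nonempty_quotSMulTop_quotient_equiv (M := M) J f
    exact e.isWeaklyRegular_congr rs

open RingTheory.Sequence in
theorem flat_quotient (rs : List S) :
    ∀ (M : Type v) [AddCommGroup M] [Module A M] [Module S M] [IsScalarTower A S M] [Module.Flat A M],
      IsWeaklyRegular M rs → Module.Flat A (M ⧸ Ideal.ofList rs • (⊤ : Submodule S M)) := by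
  induction rs with
  | nil =>
    intro M _ _ _ _ _ _
    exact Module.Flat.of_linearEquiv ((Submodule.quotEquivOfEqBot _ (by simp)).restrictScalars A)
  | cons f rs ih =>
    intro M _ _ _ _ _ hreg
    obtain ⟨hf, hreg⟩ := (isWeaklyRegular_cons_iff M f rs).1 hreg
    let h := (LinearMap.lsmul S M f).restrictScalars A
    have : Module.Flat A (QuotSMulTop f M) := by
      refine GrothLib.ArtinFlat.flat_of_residueField h
        ((f • (⊤ : Submodule S M)).mkQ.restrictScalars A) (Submodule.mkQ_surjective _) ?_
        (injective_residueField_of_injective h A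
          (Module.Flat.lTensor_preserves_injective_linearMap h hf))
      intro x
      show Submodule.Quotient.mk x = (0 : QuotSMulTop f M) ↔ _
      rw [Submodule.Quotient.mk_eq_zero, Submodule.mem_smul_pointwise_iff_exists]
      simp [h]
    have := ih (QuotSMulTop f M) hreg
    exact Module.Flat.of_linearEquiv
      ((Submodule.quotOfListConsSMulTopEquivQuotSMulTopInner M f rs).restrictScalars A)

end GrothLib.ArtinReg
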